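import Mathlib

/-!
# Semilocal Prüfer domains of finite Krull dimension have finite spectrum
-/

namespace Groth.Agent.Helper9.Prufer

/-- A totally ordered partial order in which all strict chains have bounded length is finite. -/
theorem finite_of_total_of_length_lt {α : Type*} [PartialOrder α]
    (htot : ∀ a b : α, a ≤ b ∨ b ≤ a) (n : ℕ) (h : ∀ l : LTSeries α, l.length < n) : Finite α := by
  classical
  let _ : LinearOrder α :=
    { (inferInstance : PartialOrder α) with
      le_total := htot
      toDecidableLE := Classical.decRel _ }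
  by_contra hinf
  rw [not_finite_iff_infinite] at hinf
  obtain ⟨s, hs⟩ := Infinite.exists_subset_card_eq α (n + 1)
  let e := s.orderEmbOfFin hs
  have := h (LTSeries.mk n (fun i => e i) e.strictMono)
  simp at this

variable (R : Type*) [CommRing R]

/-- primes below a prime `m` with `R_m` a valuation ring are totally ordered -/
theorem le_total_of_le_of_valuationRing [IsDomain R] (m : Ideal R) [m.IsPrime]
    [ValuationRing (Localization.AtPrime m)] (p q : Ideal R) [p.IsPrime] [q.IsPrime]
    (hp : p ≤ m) (hq : q ≤ m) : p ≤ q ∨ q ≤ p := by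
  have hpd : Disjoint (m.primeCompl : Set R) (p : Set R) := by
    rw [Set.disjoint_left]; intro x hx hxp; exact hx (hp hxp)
  have hqd : Disjoint (m.primeCompl : Set R) (q : Set R) := by
    rw [Set.disjoint_left]; intro x hx hxq; exact hx (hq hxq)
  have hp' := IsLocalization.under_map_of_isPrime_disjoint m.primeCompl
    (Localization.AtPrime m) ‹p.IsPrime› hpd
  have hq' := IsLocalization.under_map_of_isPrime_disjoint m.primeCompl
    (Localization.AtPrime m) ‹q.IsPrime› hqd
  rcases (ValuationRing.le_total_ideal (A := Localization.AtPrime m)).total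
    (p.map (algebraMap R (Localization.AtPrime m)))
    (q.map (algebraMap R (Localization.AtPrime m))) with h | h
  · left; rw [← hp', ← hq']; exact Ideal.comap_mono h
  · right; rw [← hp', ← hq']; exact Ideal.comap_mono h

theorem finite_primeSpectrum_of_semilocal_prufer [IsDomain R]
    (hR : ∀ (p : Ideal R) [p.IsPrime], ValuationRing (Localization.AtPrime p))
    (hfin : Finite (MaximalSpectrum R)) (hdim : ringKrullDim R < ⊤) :
    Finite (PrimeSpectrum R) := by
  classical
  -- a bound on chains
  have hbound : ∃ n : ℕ, ∀ l : LTSeries (PrimeSpectrum R), l.length < n := by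
    have h1 : Order.krullDim (PrimeSpectrum R) < ⊤ := hdim
    have h2 : Order.krullDim (PrimeSpectrum R) ≠ ⊤ := ne_of_lt h1
    rw [Ne, Order.krullDim_eq_top_iff] at h2
    have : FiniteDimensionalOrder (PrimeSpectrum R) := by
      rcases finiteDimensionalOrder_or_infiniteDimensionalOrder (PrimeSpectrum R) with h | h
      · exact h
      · exact absurd h h2
    refine ⟨(LTSeries.longestOf (PrimeSpectrum R)).length + 1, fun l => ?_⟩
    exact Nat.lt_succ_of_le (LTSeries.longestOf_is_longest l)
  obtain ⟨n, hn⟩ := hbound
  -- each lower set is finite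
  have hlow : ∀ m : MaximalSpectrum R, Set.Finite {p : PrimeSpectrum R | p.asIdeal ≤ m.asIdeal} := by
    intro m
    have := m.isMaximal.isPrime
    have := hR m.asIdeal
    rw [← Set.finite_coe_iff]
    apply finite_of_total_of_length_lt (n := n)
    · rintro ⟨a, ha⟩ ⟨b, hb⟩
      exact le_total_of_le_of_valuationRing R m.asIdeal a.asIdeal b.asIdeal ha hb
    · intro l
      have := hn (l.map Subtype.val (fun _ _ h => h))
      simpa using this
  have hcover : (Set.univ : Set (PrimeSpectrum R)) =
      ⋃ m : MaximalSpectrum R, {p : PrimeSpectrum R | p.asIdeal ≤ m.asIdeal} := by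
    ext p
    simp only [Set.mem_univ, Set.mem_iUnion, Set.mem_ofPred_eq, true_iff]
    obtain ⟨m, hm, hpm⟩ := Ideal.exists_le_maximal p.asIdeal p.2.ne_top
    exact ⟨⟨m, hm⟩, hpm⟩
  rw [← Set.finite_univ_iff, hcover]
  exact Set.finite_iUnion hlow

end Groth.Agent.Helper9.Prufer
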