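import Mathlib

/-!
# Finite intersections of valuation rings: the geometric-sum trick
-/

namespace Groth.Agent.Helper9.Prufer

open Finset

variable {L : Type*} [Field L]

/-- `p` is good for `(V, x)` -/
def Good (V : ValuationSubring L) (x : L) (p : ℕ) : Prop :=
  IsUnit ((p : ℕ) : V) ∧
    ∀ hx : x ∈ V, IsUnit ((⟨x, hx⟩ : V) - 1) → IsUnit ((⟨x, hx⟩ : V) ^ p - 1)

lemma bad_finite (V : ValuationSubring L) (x : L) :
    {p : ℕ | p.Prime ∧ ¬ Good V x p}.Finite := by
  classical
  have hchar : ∀ p : ℕ, p.Prime → ¬ IsUnit ((p : ℕ) : V) →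
      p = ringChar (IsLocalRing.ResidueField V) := by
    intro p hp h
    have : ((p : ℕ) : IsLocalRing.ResidueField V) = 0 := by
      have h' : IsLocalRing.residue V ((p : ℕ) : V) = 0 := by
        by_contra hne
        exact h ((IsLocalRing.residue_ne_zero_iff_isUnit _).mp hne)
      rwa [map_natCast] at h'
    exact (CharP.ringChar_of_prime_eq_zero hp this).symm
  by_cases hx : x ∈ V
  · apply Set.Finite.subset (Set.toFinite
      {ringChar (IsLocalRing.ResidueField V), orderOf (IsLocalRing.residue V ⟨x, hx⟩)})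
    rintro p ⟨hp, hbad⟩
    unfold Good at hbad
    rw [not_and_or] at hbad
    rcases hbad with h | h
    · left; exact hchar p hp h
    · right
      push Not at h
      obtain ⟨hx', hu1, hu2⟩ := h
      rw [Set.mem_singleton_iff]
      have h1 : IsLocalRing.residue V ((⟨x, hx⟩ : V) ^ p - 1) = 0 := by
        by_contra hne
        exact hu2 ((IsLocalRing.residue_ne_zero_iff_isUnit _).mp hne)
      rw [map_sub, map_pow, map_one, sub_eq_zero] at h1
      have h2 : orderOf (IsLocalRing.residue V ⟨x, hx⟩) ∣ p := orderOf_dvd_of_pow_eq_one h1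
      rcases (Nat.dvd_prime hp).mp h2 with h3 | h3
      · exfalso
        rw [orderOf_eq_one_iff] at h3
        have : IsLocalRing.residue V ((⟨x, hx⟩ : V) - 1) ≠ 0 :=
          (IsLocalRing.residue_ne_zero_iff_isUnit _).mpr hu1
        apply this
        rw [map_sub, map_one, h3, sub_self]
      · exact h3.symm
  · apply Set.Finite.subset (Set.toFinite {ringChar (IsLocalRing.ResidueField V)})
    rintro p ⟨hp, hbad⟩
    unfold Good at hbad
    rw [not_and_or] at hbad
    rcases hbad with h | h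
    · exact hchar p hp h
    · push Not at h
      obtain ⟨hx', -, -⟩ := h
      exact absurd hx' hx

lemma exists_good {ι : Type*} [Finite ι] (V : ι → ValuationSubring L) (x : L) :
    ∃ p : ℕ, p.Prime ∧ ∀ i, Good (V i) x p := by
  have hfin : (⋃ i, {p : ℕ | p.Prime ∧ ¬ Good (V i) x p}).Finite :=
    Set.finite_iUnion fun i => bad_finite (V i) x
  obtain ⟨p, hp, hpn⟩ := (Nat.infinite_setOfPred_prime.sdiff hfin).nonempty
  refine ⟨p, hp, fun i => ?_⟩
  by_contra hbad
  exact hpn (Set.mem_iUnion.mpr ⟨i, hp, hbad⟩)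

lemma unit_inv_mem (V : ValuationSubring L) (w : V) (hw : IsUnit w) :
    (w : L) ≠ 0 ∧ (w : L)⁻¹ ∈ V := by
  obtain ⟨w', rfl⟩ := hw
  have h1 : ((w' : V) : L) * ((↑(w'⁻¹) : V) : L) = 1 := by
    rw [← MulMemClass.coe_mul, Units.mul_inv]; rfl
  have h0 : ((w' : V) : L) ≠ 0 := left_ne_zero_of_mul_eq_one h1
  refine ⟨h0, ?_⟩
  have : ((w' : V) : L)⁻¹ = ((↑(w'⁻¹) : V) : L) := by
    rw [inv_eq_of_mul_eq_one_right h1]
  rw [this]
  exact SetLike.coe_mem _

lemma good_spec (V : ValuationSubring L) (x : L) (p : ℕ) (hp : 0 < p) (h : Good V x p) :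
    (∑ k ∈ range p, x ^ k) ≠ 0 ∧ ∀ k < p, x ^ k * (∑ k ∈ range p, x ^ k)⁻¹ ∈ V := by
  classical
  by_cases hx : x ∈ V
  · set a : V := ⟨x, hx⟩ with ha
    set w : V := ∑ k ∈ range p, a ^ k with hw
    have hwL : (w : L) = ∑ k ∈ range p, x ^ k := by
      rw [hw]
      push_cast
      rfl
    have hwu : IsUnit w := by
      by_cases h1 : IsUnit (a - 1)
      · have h2 := h.2 hx h1
        rw [← mul_geom_sum] at h2
        exact isUnit_of_mul_isUnit_right h2
      · have h3 : IsLocalRing.residue V (a - 1) = 0 := by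
          by_contra hne
          exact h1 ((IsLocalRing.residue_ne_zero_iff_isUnit _).mp hne)
        rw [map_sub, map_one, sub_eq_zero] at h3
        rw [← IsLocalRing.residue_ne_zero_iff_isUnit, hw, map_sum]
        simp only [map_pow, h3, one_pow, sum_const, card_range, nsmul_eq_mul, mul_one]
        have := (IsLocalRing.residue_ne_zero_iff_isUnit _).mpr h.1
        rwa [map_natCast] at this
    obtain ⟨h0, hinv⟩ := unit_inv_mem V w hwu
    rw [hwL] at h0 hinv
    refine ⟨h0, fun k _ => ?_⟩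
    exact V.mul_mem _ _ (pow_mem hx k) hinv
  · have hxi : x⁻¹ ∈ V := (V.mem_or_inv_mem x).resolve_left hx
    have hx0 : x ≠ 0 := fun h0 => hx (h0 ▸ V.zero_mem)
    set b : V := ⟨x⁻¹, hxi⟩ with hb
    have hbnu : ¬ IsUnit b := by
      intro hbu
      obtain ⟨-, hinv⟩ := unit_inv_mem V b hbu
      rw [hb] at hinv
      simp only [inv_inv] at hinv
      exact hx hinv
    set w : V := ∑ k ∈ range p, b ^ k with hw
    have hwL : (w : L) = ∑ k ∈ range p, (x⁻¹) ^ k := by
      rw [hw]
      push_cast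
      rfl
    have hwu : IsUnit w := by
      have h3 : IsLocalRing.residue V b = 0 := by
        by_contra hne
        exact hbnu ((IsLocalRing.residue_ne_zero_iff_isUnit _).mp hne)
      rw [← IsLocalRing.residue_ne_zero_iff_isUnit, hw, map_sum]
      obtain ⟨q, rfl⟩ := Nat.exists_eq_succ_of_ne_zero hp.ne'
      rw [sum_range_succ']
      simp [h3]
    obtain ⟨h0, hinv⟩ := unit_inv_mem V w hwu
    have hu : (∑ k ∈ range p, x ^ k) = x ^ (p - 1) * (w : L) := by
      rw [hwL, mul_sum, ← sum_range_reflect]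
      apply sum_congr rfl
      intro j hj
      have hj' : j < p := mem_range.mp hj
      have : p - 1 = (p - 1 - j) + j := by omega
      conv_rhs => rw [this, pow_add, inv_pow, mul_assoc, mul_inv_cancel₀ (pow_ne_zero j hx0),
        mul_one]
    refine ⟨?_, fun k hk => ?_⟩
    · rw [hu]; exact mul_ne_zero (pow_ne_zero _ hx0) h0
    · rw [hu, mul_inv, ← mul_assoc]
      have : x ^ k * (x ^ (p - 1))⁻¹ = (x⁻¹) ^ (p - 1 - k) := by
        have : p - 1 = (p - 1 - k) + k := by omega
        conv_lhs => rw [this, pow_add, mul_inv, mul_comm, mul_assoc,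
          inv_mul_cancel₀ (pow_ne_zero k hx0), mul_one]
        rw [inv_pow]
      rw [this]
      exact V.mul_mem _ _ (pow_mem hxi _) hinv

/-- The key lemma: for a finite nonempty family of valuation subrings and `x : L` there is
`n ≥ 1` with `u = 1 + x + ⋯ + x^n ≠ 0` and `x^k / u` in all of them for `k ≤ n`. -/
theorem exists_geom {ι : Type*} [Finite ι] [Nonempty ι] (V : ι → ValuationSubring L) (x : L) :
    ∃ n : ℕ, 1 ≤ n ∧ (∑ k ∈ range (n + 1), x ^ k) ≠ 0 ∧
      ∀ k ≤ n, ∀ i, x ^ k * (∑ k ∈ range (n + 1), x ^ k)⁻¹ ∈ V i := by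
  obtain ⟨p, hp, hgood⟩ := exists_good V x
  obtain ⟨n, rfl⟩ := Nat.exists_eq_succ_of_ne_zero hp.pos.ne'
  refine ⟨n, ?_, ?_, ?_⟩
  · have := hp.two_le; omega
  · exact (good_spec (V (Classical.arbitrary ι)) x (n + 1) (Nat.succ_pos n)
      (hgood _)).1
  · intro k hk i
    exact (good_spec (V i) x (n + 1) (Nat.succ_pos n) (hgood i)).2 k (Nat.lt_succ_of_le hk)

end Groth.Agent.Helper9.Prufer
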