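import Mathlib
import Groth.Agent.Lib.Helper9.Prufer.InterVal

/-!
# Finite intersections of valuation rings with a subfield are semilocal Prüfer
-/

namespace Groth.Agent.Helper9.Prufer

open Finset

variable {L : Type*} [Field L] {ι : Type*} [Finite ι] [Nonempty ι]
  (V : ι → ValuationSubring L) (K : Subfield L) (A : Subring L)
  (hA : ∀ y : L, y ∈ A ↔ (∀ i, y ∈ V i) ∧ y ∈ K)

include hA

theorem exists_frac (x : L) (hx : x ∈ K) :
    ∃ a b : L, a ∈ A ∧ b ∈ A ∧ b ≠ 0 ∧ x = a / b := by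
  obtain ⟨n, hn, hu, hmem⟩ := exists_geom V x
  set u := ∑ k ∈ range (n + 1), x ^ k with hudef
  have huK : u ∈ K := K.sum_mem fun k _ => K.pow_mem hx k
  refine ⟨x ^ 1 * u⁻¹, x ^ 0 * u⁻¹, ?_, ?_, ?_, ?_⟩
  · rw [hA]
    exact ⟨fun i => hmem 1 hn i, K.mul_mem (K.pow_mem hx 1) (K.inv_mem huK)⟩
  · rw [hA]
    exact ⟨fun i => hmem 0 (Nat.zero_le n) i, K.mul_mem (K.pow_mem hx 0) (K.inv_mem huK)⟩
  · rw [pow_zero, one_mul]; exact inv_ne_zero hu
  · rw [pow_zero, one_mul, pow_one, mul_div_assoc, div_self (inv_ne_zero hu), mul_one]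

theorem exists_zfam (a₀ b₀ : A) (hb : b₀ ≠ 0) :
    ∃ n : ℕ, 1 ≤ n ∧ ∃ z : ℕ → A, ∑ k ∈ range (n + 1), z k = 1 ∧
      ∀ k < n, z (k + 1) * b₀ = z k * a₀ := by
  classical
  have hbL : (b₀ : L) ≠ 0 := fun h => hb (Subtype.ext h)
  have haK : (a₀ : L) ∈ K := ((hA _).mp a₀.2).2
  have hbK : (b₀ : L) ∈ K := ((hA _).mp b₀.2).2
  set x : L := (a₀ : L) / (b₀ : L) with hx
  have hxK : x ∈ K := K.div_mem haK hbK
  obtain ⟨n, hn, hu, hmem⟩ := exists_geom V x
  set u := ∑ k ∈ range (n + 1), x ^ k with hudef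
  have huK : u ∈ K := K.sum_mem fun k _ => K.pow_mem hxK k
  have hzmem : ∀ k ≤ n, x ^ k * u⁻¹ ∈ A := by
    intro k hk
    rw [hA]
    exact ⟨fun i => hmem k hk i, K.mul_mem (K.pow_mem hxK k) (K.inv_mem huK)⟩
  let z : ℕ → A := fun k => if h : k ≤ n then ⟨x ^ k * u⁻¹, hzmem k h⟩ else 0
  have hz : ∀ k ≤ n, ((z k : A) : L) = x ^ k * u⁻¹ := by
    intro k hk
    simp only [z, dif_pos hk]
  refine ⟨n, hn, z, ?_, ?_⟩
  · apply Subtype.ext
    rw [AddSubmonoidClass.coe_finsetSum, Subring.coe_one]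
    have : ∑ k ∈ range (n + 1), ((z k : A) : L) = ∑ k ∈ range (n + 1), x ^ k * u⁻¹ := by
      apply sum_congr rfl
      intro k hk
      exact hz k (Nat.lt_succ_iff.mp (mem_range.mp hk))
    rw [this, ← sum_mul, ← hudef, mul_inv_cancel₀ hu]
  · intro k hk
    apply Subtype.ext
    rw [Subring.coe_mul, Subring.coe_mul, hz (k + 1) hk, hz k hk.le, hx, pow_succ]
    field_simp

omit [Finite ι] [Nonempty ι] hA in
lemma isUnit_dvd_aux {S : Type*} [CommRing S] (a b u : S) (hu : IsUnit u) (h : a ∣ u * b) :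
    a ∣ b := (IsUnit.dvd_mul_left hu).mp h

theorem valuationRing_localization (q : Ideal A) [q.IsPrime] :
    ValuationRing (Localization.AtPrime q) := by
  rw [ValuationRing.iff_dvd_total]
  -- reduce to images of elements of `A`
  have key : ∀ a₀ b₀ : A,
      algebraMap A (Localization.AtPrime q) a₀ ∣ algebraMap A (Localization.AtPrime q) b₀ ∨
      algebraMap A (Localization.AtPrime q) b₀ ∣ algebraMap A (Localization.AtPrime q) a₀ := by
    intro a₀ b₀
    by_cases hb : b₀ = 0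
    · left; rw [hb, map_zero]; exact dvd_zero _
    obtain ⟨n, hn, z, hsum, hrel⟩ := exists_zfam V K A hA a₀ b₀ hb
    have hex : ∃ k ∈ range (n + 1), z k ∉ q := by
      by_contra hall
      push Not at hall
      have : (∑ k ∈ range (n + 1), z k) ∈ q := q.sum_mem hall
      rw [hsum] at this
      exact (Ideal.IsPrime.ne_top ‹_›) ((Ideal.eq_top_iff_one q).mpr this)
    obtain ⟨k, hk, hzk⟩ := hex
    have hku : IsUnit (algebraMap A (Localization.AtPrime q) (z k)) :=
      IsLocalization.map_units (Localization.AtPrime q) (⟨z k, hzk⟩ : q.primeCompl)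
    have hkn : k ≤ n := Nat.lt_succ_iff.mp (mem_range.mp hk)
    rcases Nat.eq_zero_or_pos k with rfl | hkpos
    · right
      have h1 := hrel 0 (by omega)
      apply isUnit_dvd_aux _ _ _ hku
      rw [← map_mul, ← h1, map_mul]
      exact Dvd.intro_left _ rfl
    · left
      obtain ⟨k', rfl⟩ := Nat.exists_eq_succ_of_ne_zero hkpos.ne'
      have h1 := hrel k' (by omega)
      apply isUnit_dvd_aux _ _ _ hku
      rw [← map_mul, h1, map_mul]
      exact Dvd.intro_left _ rfl
  refine ⟨fun α β => ?_⟩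
  obtain ⟨⟨a₀, s⟩, hα⟩ := IsLocalization.surj q.primeCompl α
  obtain ⟨⟨b₀, t⟩, hβ⟩ := IsLocalization.surj q.primeCompl β
  simp only at hα hβ
  have hs : IsUnit (algebraMap A (Localization.AtPrime q) s) :=
    IsLocalization.map_units _ s
  have ht : IsUnit (algebraMap A (Localization.AtPrime q) t) :=
    IsLocalization.map_units _ t
  rcases key a₀ b₀ with h | h
  · left
    rw [← hα, ← hβ] at h
    exact (IsUnit.dvd_mul_right ht).mp ((IsUnit.mul_right_dvd hs).mp h)
  · right
    rw [← hα, ← hβ] at h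
    exact (IsUnit.dvd_mul_right hs).mp ((IsUnit.mul_right_dvd ht).mp h)

theorem finite_maximalSpectrum : Finite (MaximalSpectrum A) := by
  classical
  have hle : ∀ i, A ≤ (V i).toSubring := fun i y hy => ((hA y).mp hy).1 i
  let φ : ∀ i, A →+* V i := fun i => Subring.inclusion (hle i)
  let P : ι → Ideal A := fun i => (IsLocalRing.maximalIdeal (V i)).comap (φ i)
  have hP : ∀ i, (P i).IsPrime := fun i => Ideal.comap_isPrime _ _
  have hunit : ∀ a : A, (∀ i, a ∉ P i) → IsUnit a := by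
    intro a ha
    have h1 : ∀ i, ((a : L) ≠ 0 ∧ (a : L)⁻¹ ∈ V i) := by
      intro i
      have : IsUnit (φ i a) := by
        by_contra hnu
        exact ha i (by
          change φ i a ∈ IsLocalRing.maximalIdeal (V i)
          rwa [IsLocalRing.mem_maximalIdeal, mem_nonunits_iff])
      exact unit_inv_mem (V i) (φ i a) this
    have h0 : (a : L) ≠ 0 := (h1 (Classical.arbitrary ι)).1
    have haK : (a : L) ∈ K := ((hA _).mp a.2).2
    have hinv : (a : L)⁻¹ ∈ A := by
      rw [hA]; exact ⟨fun i => (h1 i).2, K.inv_mem haK⟩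
    refine ⟨⟨a, ⟨_, hinv⟩, ?_, ?_⟩, rfl⟩
    · apply Subtype.ext; simp [h0]
    · apply Subtype.ext; simp [h0]
  have hmax : ∀ n : MaximalSpectrum A, ∃ i, n.asIdeal = P i := by
    intro n
    by_contra hne
    push Not at hne
    have hnle : ∀ i, ¬ n.asIdeal ≤ P i := fun i hle' =>
      hne i (n.isMaximal.eq_of_le (hP i).ne_top hle')
    have : Fintype ι := Fintype.ofFinite ι
    have hnot : ¬ ((n.asIdeal : Set A) ⊆ ⋃ i ∈ ((Finset.univ : Finset ι) : Set ι), (P i : Set A)) := by
      intro hsub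
      rw [Ideal.subset_union_prime (f := P) (Classical.arbitrary ι) (Classical.arbitrary ι)
        (fun i _ _ _ => hP i)] at hsub
      obtain ⟨i, -, hi⟩ := hsub
      exact hnle i hi
    rw [Set.not_subset] at hnot
    obtain ⟨a, han, hau⟩ := hnot
    have : IsUnit a := hunit a (fun i hai => hau (by
      simp only [Set.mem_iUnion]
      exact ⟨i, by simp, hai⟩))
    exact n.isMaximal.ne_top (Ideal.eq_top_of_isUnit_mem _ han this)
  choose f hf using hmax
  apply Finite.of_injective f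
  intro n n' h
  apply MaximalSpectrum.ext
  rw [hf n, hf n', h]

end Groth.Agent.Helper9.Prufer
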