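import Mathlib
import Groth.Agent.Lib.Helper9.Prufer.InterVal2

/-!
# Semilocal Prüfer domains as finite intersections of valuation subrings
-/

namespace Groth.Agent.Helper9.Prufer

universe u

variable (R L : Type u) [CommRing R] [IsDomain R] [Field L] [Algebra R L] [IsFractionRing R L]

/-- the valuation subring of `L` attached to a prime `m` with `R_m` a valuation ring -/
noncomputable def valSub (m : Ideal R) [hm : m.IsPrime]
    (hv : ValuationRing (Localization.AtPrime m)) : ValuationSubring L :=
  { (Localization.subalgebra.ofField L m.primeCompl m.primeCompl_le_nonZeroDivisors).toSubring with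
    mem_or_inv_mem' := by
      intro x
      change (∃ (a s : R) (_ : s ∈ m.primeCompl), x = algebraMap R L a * (algebraMap R L s)⁻¹) ∨
        (∃ (a s : R) (_ : s ∈ m.primeCompl), x⁻¹ = algebraMap R L a * (algebraMap R L s)⁻¹)
      obtain ⟨a, b, hb, rfl⟩ := IsFractionRing.div_surjective R x (K := L)
      have hb0 : b ≠ 0 := nonZeroDivisors.ne_zero hb
      have hbL : algebraMap R L b ≠ 0 := by
        rwa [Ne, map_eq_zero_iff _ (IsFractionRing.injective R L)]
      have hinj : Function.Injective (algebraMap R (Localization.AtPrime m)) :=
        IsLocalization.injective _ m.primeCompl_le_nonZeroDivisors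
      obtain ⟨c, hc⟩ := ValuationRing.cond (algebraMap R (Localization.AtPrime m) a)
        (algebraMap R (Localization.AtPrime m) b)
      obtain ⟨⟨c₀, s⟩, hcs⟩ := IsLocalization.surj m.primeCompl c
      simp only at hcs
      have hsL : algebraMap R L (s : R) ≠ 0 := by
        rw [Ne, map_eq_zero_iff _ (IsFractionRing.injective R L)]
        exact nonZeroDivisors.ne_zero (m.primeCompl_le_nonZeroDivisors s.2)
      rcases hc with hc | hc
      · -- a * c = b
        by_cases ha0 : a = 0
        · left
          refine ⟨0, 1, Submonoid.one_mem _, ?_⟩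
          rw [ha0, map_zero, zero_div, zero_mul]
        right
        have haL : algebraMap R L a ≠ 0 := by
          rwa [Ne, map_eq_zero_iff _ (IsFractionRing.injective R L)]
        have h1 : a * c₀ = b * s := by
          apply hinj
          rw [map_mul, map_mul, ← hcs, ← hc]; ring
        refine ⟨c₀, s, s.2, ?_⟩
        have h2 : algebraMap R L a * algebraMap R L c₀ = algebraMap R L b * algebraMap R L s := by
          rw [← map_mul, ← map_mul, h1]
        field_simp
        rw [h2]
      · -- b * c = a
        left
        have h1 : b * c₀ = a * s := by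
          apply hinj
          rw [map_mul, map_mul, ← hcs, ← hc]; ring
        refine ⟨c₀, s, s.2, ?_⟩
        have h2 : algebraMap R L b * algebraMap R L c₀ = algebraMap R L a * algebraMap R L s := by
          rw [← map_mul, ← map_mul, h1]
        field_simp
        rw [← h2] }

lemma mem_valSub_iff (m : Ideal R) [hm : m.IsPrime]
    (hv : ValuationRing (Localization.AtPrime m)) (x : L) :
    x ∈ valSub R L m hv ↔
      ∃ a s : R, s ∉ m ∧ x = algebraMap R L a * (algebraMap R L s)⁻¹ := by
  change (∃ (a s : R) (_ : s ∈ m.primeCompl), x = algebraMap R L a * (algebraMap R L s)⁻¹) ↔ _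
  constructor
  · rintro ⟨a, s, hs, h⟩; exact ⟨a, s, hs, h⟩
  · rintro ⟨a, s, hs, h⟩; exact ⟨a, s, hs, h⟩

theorem mem_range_iff
    (hR : ∀ (p : Ideal R) [p.IsPrime], ValuationRing (Localization.AtPrime p)) (y : L) :
    y ∈ (algebraMap R L).range ↔
      ∀ m : MaximalSpectrum R,
        y ∈ (haveI := m.isMaximal.isPrime; valSub R L m.asIdeal (hR m.asIdeal)) := by
  constructor
  · rintro ⟨r, rfl⟩ m
    have := m.isMaximal.isPrime
    rw [mem_valSub_iff]
    exact ⟨r, 1, (Ideal.ne_top_iff_one _).mp m.isMaximal.ne_top, by simp⟩
  · intro h
    let I : Ideal R :=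
      { carrier := {s | algebraMap R L s * y ∈ (algebraMap R L).range}
        add_mem' := by
          intro s t hs ht
          change algebraMap R L (s + t) * y ∈ (algebraMap R L).range
          rw [map_add, add_mul]
          exact Subring.add_mem _ hs ht
        zero_mem' := by
          change algebraMap R L 0 * y ∈ (algebraMap R L).range
          rw [map_zero, zero_mul]; exact Subring.zero_mem _
        smul_mem' := by
          intro t s hs
          change algebraMap R L (t • s) * y ∈ (algebraMap R L).range
          rw [smul_eq_mul, map_mul, mul_assoc]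
          exact Subring.mul_mem _ ⟨t, rfl⟩ hs }
    have hI : I = ⊤ := by
      by_contra hne
      obtain ⟨m, hm, hIm⟩ := Ideal.exists_le_maximal I hne
      have := hm.isPrime
      have := h ⟨m, hm⟩
      rw [mem_valSub_iff] at this
      obtain ⟨a, s, hs, hy⟩ := this
      apply hs
      apply hIm
      change algebraMap R L s * y ∈ (algebraMap R L).range
      have hsL : algebraMap R L s ≠ 0 := by
        rw [Ne, map_eq_zero_iff _ (IsFractionRing.injective R L)]
        rintro rfl; exact hs m.zero_mem
      refine ⟨a, ?_⟩
      rw [hy]; field_simp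
    have h1 : (1 : R) ∈ I := by rw [hI]; trivial
    have : algebraMap R L 1 * y ∈ (algebraMap R L).range := h1
    rwa [map_one, one_mul] at this

end Groth.Agent.Helper9.Prufer
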